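import Groth.Agent.Etcore.Herbrand
import Mathlib.GroupTheory.Index
import Mathlib.RingTheory.Polynomial.Cyclotomic.Roots
import Mathlib.RingTheory.Polynomial.Cyclotomic.Eval
import Mathlib.RingTheory.RootsOfUnity.CyclotomicUnits
import Mathlib.RingTheory.AdjoinRoot

/-!
# The Herbrand quotient of a cyclic group of prime order

For `G = ℤ/p` acting on `A` with `A[p]`, `A/p` finite the Herbrand quotient `h` of `A` satisfies
`h ^ (p - 1) = q(A^G) ^ p / q(A)`, where `q(M) = #(M/p) / #M[p]`.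
-/

set_option autoImplicit false

open Function Polynomial Groth.Agent.Etcore.Herbrand

namespace Groth.Agent.Etbc.H162.HerbP

section cyclo

variable (p : ℕ) [hp : Fact p.Prime]

theorem associated_pow {R : Type*} [CommRing R] [IsDomain R] {ζ : R}
    (hζ : IsPrimitiveRoot ζ p) : Associated ((ζ - 1) ^ (p - 1)) (p : R) := by
  rw [← eval_one_cyclotomic_prime (R := R) (p := p),
    cyclotomic_eq_prod_X_sub_primitiveRoots hζ, eval_prod]
  simp only [eval_sub, eval_X, eval_C]
  rw [← Nat.totient_prime hp.out, ← hζ.card_primitiveRoots, ← Finset.prod_const]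
  refine Associated.prod _ _ _ fun η hη ↦ ?_
  have hη' : IsPrimitiveRoot η p := isPrimitiveRoot_of_mem_primitiveRoots hη
  have : NeZero p := ⟨hp.out.ne_zero⟩
  obtain ⟨i, -, hi, rfl⟩ := hζ.isPrimitiveRoot_iff.mp hη'
  simpa using (hζ.associated_sub_one_pow_sub_one_of_coprime hi).neg_right

theorem exists_unit : ∃ U V W W' : ℤ[X],
    (X - 1) ^ (p - 1) * U = (p : ℤ[X]) + cyclotomic p ℤ * W ∧ U * V = 1 + cyclotomic p ℤ * W' := by
  have hirr : Irreducible (cyclotomic p ℤ) := cyclotomic.irreducible hp.out.pos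
  have hprime : Prime (cyclotomic p ℤ) := hirr.prime
  let R := AdjoinRoot (cyclotomic p ℤ)
  have : IsDomain R := AdjoinRoot.isDomain_of_prime hprime
  have hdeg : (cyclotomic p ℤ).degree ≠ 0 := by
    rw [degree_cyclotomic]
    have := Nat.totient_pos.2 hp.out.pos
    exact_mod_cast this.ne'
  have hinj : Injective (AdjoinRoot.of (cyclotomic p ℤ)) :=
    AdjoinRoot.of.injective_of_degree_ne_zero hdeg
  have : NeZero ((p : ℕ) : R) := ⟨by
    intro h
    have : AdjoinRoot.of (cyclotomic p ℤ) (p : ℤ) = AdjoinRoot.of (cyclotomic p ℤ) 0 := by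
      rw [map_zero, ← h]; simp
    exact hp.out.ne_zero (by exact_mod_cast hinj this)⟩
  have hroot : IsPrimitiveRoot (AdjoinRoot.root (cyclotomic p ℤ) : R) p := by
    rw [← isRoot_cyclotomic_iff, IsRoot.def]
    have h := AdjoinRoot.eval₂_root (cyclotomic p ℤ)
    rw [← map_cyclotomic p (AdjoinRoot.of (cyclotomic p ℤ)), eval_map]
    exact h
  obtain ⟨u, hu⟩ := associated_pow p hroot
  obtain ⟨U, hU⟩ := AdjoinRoot.mk_surjective (g := cyclotomic p ℤ) (u : R)
  obtain ⟨V, hV⟩ := AdjoinRoot.mk_surjective (g := cyclotomic p ℤ) ((u⁻¹ : Rˣ) : R)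
  have h1 : AdjoinRoot.mk (cyclotomic p ℤ) ((X - 1) ^ (p - 1) * U) =
      AdjoinRoot.mk (cyclotomic p ℤ) (p : ℤ[X]) := by
    rw [map_mul, map_pow, map_sub, AdjoinRoot.mk_X, map_one, hU, hu, map_natCast]
  have h2 : AdjoinRoot.mk (cyclotomic p ℤ) (U * V) = AdjoinRoot.mk (cyclotomic p ℤ) 1 := by
    rw [map_mul, hU, hV, map_one, Units.mul_inv]
  rw [AdjoinRoot.mk_eq_mk] at h1 h2
  obtain ⟨W, hW⟩ := h1
  obtain ⟨W', hW'⟩ := h2
  exact ⟨U, V, W, W', by rw [← hW]; ring, by rw [← hW']; ring⟩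

end cyclo

section endo

variable {M : Type*} [AddCommGroup M]

/-- `# ker f` -/
noncomputable def kr (f : AddMonoid.End M) : ℕ := Nat.card (AddMonoidHom.ker f)

/-- `# coker f` -/
noncomputable def ck (f : AddMonoid.End M) : ℕ := (AddMonoidHom.range f).index

theorem kr_mul_eq (f g : AddMonoid.End M) :
    kr (f * g) = kr g * Nat.card (AddMonoidHom.ker f ⊓ AddMonoidHom.range g : AddSubgroup M) := by
  have h1 : AddMonoidHom.ker (f * g) = (AddMonoidHom.ker f).comap g := by
    ext x; rfl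
  have hle : AddMonoidHom.ker g ≤ AddMonoidHom.ker (f * g) := by
    intro x hx
    have hx' : g x = 0 := hx
    change f (g x) = 0
    rw [hx', map_zero]
  have h2 := AddSubgroup.relIndex_mul_relIndex ⊥ (AddMonoidHom.ker g) (AddMonoidHom.ker (f * g))
    bot_le hle
  rw [AddSubgroup.relIndex_bot_left, AddSubgroup.relIndex_bot_left, AddSubgroup.relIndex_ker] at h2
  rw [kr, kr, ← h2, h1, AddSubgroup.map_comap_eq, inf_comm]

theorem ck_mul_eq (f g : AddMonoid.End M) :
    ck (f * g) = (AddMonoidHom.range g ⊔ AddMonoidHom.ker f).index * ck f := by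
  have h1 : AddMonoidHom.range (f * g) = (AddMonoidHom.range g).map f := by
    ext x
    simp only [AddMonoidHom.mem_range, AddSubgroup.mem_map]
    constructor
    · rintro ⟨y, rfl⟩; exact ⟨g y, ⟨y, rfl⟩, rfl⟩
    · rintro ⟨_, ⟨y, rfl⟩, rfl⟩; exact ⟨y, rfl⟩
  rw [ck, h1, AddSubgroup.index_map]
  rfl

theorem kr_ck_mul (f g : AddMonoid.End M) :
    kr g * kr f * ck (f * g) = kr (f * g) * ck g * ck f := by
  rw [kr_mul_eq, ck_mul_eq]
  have h1 : ck g = (AddMonoidHom.range g).relIndex (AddMonoidHom.ker f) *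
      (AddMonoidHom.range g ⊔ AddMonoidHom.ker f).index := by
    rw [ck, ← AddSubgroup.relIndex_mul_index
      (le_sup_left : AddMonoidHom.range g ≤ AddMonoidHom.range g ⊔ AddMonoidHom.ker f),
      AddSubgroup.relIndex_sup_left]
  have h2 : kr f = Nat.card (AddMonoidHom.ker f ⊓ AddMonoidHom.range g : AddSubgroup M) *
      (AddMonoidHom.range g).relIndex (AddMonoidHom.ker f) := by
    have := AddSubgroup.relIndex_mul_relIndex ⊥ (AddMonoidHom.ker f ⊓ AddMonoidHom.range g)
      (AddMonoidHom.ker f) bot_le inf_le_left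
    rw [AddSubgroup.relIndex_bot_left, AddSubgroup.relIndex_bot_left,
      AddSubgroup.inf_relIndex_left] at this
    exact this.symm
  rw [h1, h2]
  ring

theorem kr_ck_pow (f : AddMonoid.End M) (hk : kr f ≠ 0) (hc : ck f ≠ 0) (n : ℕ) :
    kr (f ^ n) ≠ 0 ∧ ck (f ^ n) ≠ 0 ∧ ck (f ^ n) * kr f ^ n = kr (f ^ n) * ck f ^ n := by
  induction n with
  | zero =>
    have h1 : kr (f ^ 0) = 1 := by
      rw [pow_zero, kr, AddSubgroup.card_eq_one]
      ext x; rfl
    have h2 : ck (f ^ 0) = 1 := by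
      rw [pow_zero, ck, AddSubgroup.index_eq_one, AddMonoidHom.range_eq_top]
      exact fun x => ⟨x, rfl⟩
    rw [h1, h2]; simp
  | succ n ih =>
    obtain ⟨a, b, c⟩ := ih
    have h := kr_ck_mul (f ^ n) f
    rw [← pow_succ] at h
    have hne : kr (f ^ (n + 1)) * ck f * ck (f ^ n) ≠ 0 ∨ ck (f ^ (n + 1)) = 0 := by
      by_cases h0 : ck (f ^ (n + 1)) = 0
      · exact Or.inr h0
      · left
        rw [← h]
        exact mul_ne_zero (mul_ne_zero hk a) h0
    have hk' : kr (f ^ (n + 1)) ≠ 0 := by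
      rw [pow_succ, kr_mul_eq]
      refine mul_ne_zero hk ?_
      have : Finite (AddMonoidHom.ker (f ^ n)) := Nat.finite_of_card_ne_zero a
      have : Finite (AddMonoidHom.ker (f ^ n) ⊓ AddMonoidHom.range f : AddSubgroup M) :=
        Finite.of_injective (AddSubgroup.inclusion inf_le_left) (AddSubgroup.inclusion_injective _)
      exact Nat.card_pos.ne'
    have hc' : ck (f ^ (n + 1)) ≠ 0 := by
      intro h0
      rw [h0, mul_zero] at h
      exact mul_ne_zero (mul_ne_zero hk' hc) b h.symm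
    refine ⟨hk', hc', ?_⟩
    apply Nat.eq_of_mul_eq_mul_right (Nat.pos_of_ne_zero a)
    calc ck (f ^ (n + 1)) * kr f ^ (n + 1) * kr (f ^ n)
        = (kr f * kr (f ^ n) * ck (f ^ (n + 1))) * kr f ^ n := by ring
      _ = kr (f ^ (n + 1)) * ck f * (ck (f ^ n) * kr f ^ n) := by rw [h]; ring
      _ = _ := by rw [c]; ring

theorem kr_unit_mul (u f : AddMonoid.End M) (hu : IsUnit u) : kr (u * f) = kr f := by
  obtain ⟨u, rfl⟩ := hu
  rw [kr, kr]
  congr 1
  have : AddMonoidHom.ker ((u : AddMonoid.End M) * f) = AddMonoidHom.ker f := by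
    ext x
    change (u : AddMonoid.End M) (f x) = 0 ↔ f x = 0
    constructor
    · intro h
      have h' := congrArg ((u⁻¹ : (AddMonoid.End M)ˣ) : AddMonoid.End M) h
      change ((((u⁻¹ : (AddMonoid.End M)ˣ) : AddMonoid.End M) * (u : AddMonoid.End M)) (f x)) = _ at h'
      rw [Units.inv_mul, map_zero] at h'
      exact h'
    · intro h
      rw [h, map_zero]
  rw [this]

theorem ck_mul_unit (u f : AddMonoid.End M) (hu : IsUnit u) : ck (f * u) = ck f := by
  obtain ⟨u, rfl⟩ := hu
  rw [ck, ck]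
  congr 1
  ext x
  rw [AddMonoidHom.mem_range, AddMonoidHom.mem_range]
  constructor
  · rintro ⟨y, rfl⟩; exact ⟨(u : AddMonoid.End M) y, rfl⟩
  · rintro ⟨y, rfl⟩
    refine ⟨((u⁻¹ : (AddMonoid.End M)ˣ) : AddMonoid.End M) y, ?_⟩
    change f (((u : AddMonoid.End M) * ((u⁻¹ : (AddMonoid.End M)ˣ) : AddMonoid.End M)) y) = _
    rw [Units.mul_inv]
    rfl

theorem tor_eq_kr (n : ℕ) : tor n M = kr (n : AddMonoid.End M) := by
  rw [tor, kr]
  refine Nat.card_congr (Equiv.subtypeEquivRight fun x => ?_)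
  rw [LinearMap.mem_ker, AddMonoidHom.mem_ker, mulN_apply]
  exact Iff.rfl

theorem cok_eq_ck (n : ℕ) : cok n M = ck (n : AddMonoid.End M) := by
  rw [cok, ck, AddSubgroup.index]
  have : (LinearMap.range (mulN n M)).toAddSubgroup = AddMonoidHom.range (n : AddMonoid.End M) := by
    ext x
    rw [Submodule.mem_toAddSubgroup, LinearMap.mem_range, AddMonoidHom.mem_range]
    constructor
    · rintro ⟨y, rfl⟩; exact ⟨y, (mulN_apply n y).symm⟩
    · rintro ⟨y, rfl⟩; exact ⟨y, mulN_apply n y⟩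
  rw [← this]
  rfl

end endo

/-- `p = unit * (s - 1) ^ (p - 1)` on a module where `1 + s + ... + s ^ (p - 1) = 0`. -/
theorem cok_mul_pow (p : ℕ) [hp : Fact p.Prime] {Z : Type*} [AddCommGroup Z] (s : AddMonoid.End Z)
    (hs : ∑ i ∈ Finset.range p, s ^ i = 0) (ht : tor p Z ≠ 0) (hc : cok p Z ≠ 0) :
    kr (s - 1) ≠ 0 ∧ ck (s - 1) ≠ 0 ∧
      cok p Z * kr (s - 1) ^ (p - 1) = tor p Z * ck (s - 1) ^ (p - 1) := by
  obtain ⟨U, V, W, W', h1, h2⟩ := exists_unit p
  have hcyc : aeval s (cyclotomic p ℤ) = 0 := by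
    rw [cyclotomic_prime, map_sum, ← hs]
    refine Finset.sum_congr rfl fun i _ => ?_
    rw [map_pow, aeval_X]
  have e1 := congrArg (aeval s) h1
  have e2 := congrArg (aeval s) h2
  rw [map_add, map_mul, map_mul, hcyc, zero_mul, add_zero, map_pow, map_sub, aeval_X, map_one,
    map_natCast] at e1
  rw [map_add, map_mul, map_mul, hcyc, zero_mul, add_zero, map_one] at e2
  have e3 : aeval s V * aeval s U = 1 := by
    rw [← map_mul, mul_comm V U, map_mul, e2]
  have hu : IsUnit (aeval s U) := ⟨⟨aeval s U, aeval s V, e2, e3⟩, rfl⟩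
  have e4 : aeval s U * (s - 1) ^ (p - 1) = (p : AddMonoid.End Z) := by
    have := congrArg (aeval s) (mul_comm ((X - 1) ^ (p - 1)) U)
    rw [map_mul, map_mul, map_pow, map_sub, aeval_X, map_one] at this
    rw [← this, e1]
  have hk : tor p Z = kr ((s - 1) ^ (p - 1)) := by
    rw [tor_eq_kr, ← e4, kr_unit_mul _ _ hu]
  have hc' : cok p Z = ck ((s - 1) ^ (p - 1)) := by
    rw [cok_eq_ck, ← e1, ck_mul_unit _ _ hu]
  obtain ⟨q, hq⟩ : ∃ q, p - 1 = q + 1 := ⟨p - 2, by have := hp.out.two_le; omega⟩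
  have hk0 : kr (s - 1) ≠ 0 := by
    rw [hk, hq, pow_succ, kr_mul_eq] at ht
    exact left_ne_zero_of_mul ht
  have hc0 : ck (s - 1) ≠ 0 := by
    rw [hc', hq, pow_succ', ck_mul_eq] at hc
    exact right_ne_zero_of_mul hc
  obtain ⟨-, -, h⟩ := kr_ck_pow (s - 1) hk0 hc0 (p - 1)
  refine ⟨hk0, hc0, ?_⟩
  rw [hk, hc', h]

section main

theorem tor_ne_zero_of_injective (n : ℕ) {M N : Type*} [AddCommGroup M] [AddCommGroup N]
    (f : M →ₗ[ℤ] N) (hf : Injective f) (h : tor n N ≠ 0) : tor n M ≠ 0 := by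
  have := finite_of_tor_ne_zero n N h
  have : Finite (LinearMap.ker (mulN n M)) := Finite.of_injective (torMap n f) (by
    intro x y hxy
    apply Subtype.ext
    apply hf
    exact congrArg Subtype.val hxy)
  exact Nat.card_pos.ne'

theorem tor_eq_cok_of_finite (n : ℕ) (M : Type*) [AddCommGroup M] [Finite M] :
    tor n M = cok n M ∧ tor n M ≠ 0 := by
  have h1 := card_eq_ker_mul_range (mulN n M)
  have h2 := Submodule.card_eq_card_quotient_mul_card (LinearMap.range (mulN n M))
  have h3 : 0 < Nat.card (LinearMap.range (mulN n M)) := Nat.card_pos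
  refine ⟨?_, Nat.card_pos.ne'⟩
  apply Nat.eq_of_mul_eq_mul_right h3
  rw [tor, cok, ← h1, h2, mul_comm]

/-- A subgroup of finite index has the same `q`. -/
theorem tor_mul_cok_of_finite_relIndex (n : ℕ) {A : Type*} [AddCommGroup A] (H K : AddSubgroup A)
    (hHK : H ≤ K) (h : H.relIndex K ≠ 0) :
    tor n H * cok n K = tor n K * cok n H := by
  let H' : AddSubgroup K := H.addSubgroupOf K
  have : Finite (K ⧸ H') := Nat.finite_of_card_ne_zero h
  have h1 := herbrand n (H'.subtype.toIntLinearMap) ((QuotientAddGroup.mk' H').toIntLinearMap)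
    Subtype.val_injective (QuotientAddGroup.mk'_surjective H') (by
      intro x
      constructor
      · intro hx
        have hx' : (x : K ⧸ H') = 0 := hx
        rw [QuotientAddGroup.eq_zero_iff] at hx'
        exact ⟨⟨x, hx'⟩, rfl⟩
      · rintro ⟨y, rfl⟩
        change ((y : K) : K ⧸ H') = 0
        rw [QuotientAddGroup.eq_zero_iff]
        exact y.2)
  obtain ⟨h2, h3⟩ := tor_eq_cok_of_finite n (K ⧸ H')
  rw [← h2] at h1
  rw [tor_congr n (AddSubgroup.addSubgroupOfEquivOfLe hHK).symm,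
    cok_congr n (AddSubgroup.addSubgroupOfEquivOfLe hHK).symm]
  apply Nat.eq_of_mul_eq_mul_right (Nat.pos_of_ne_zero h3)
  calc tor n H' * cok n K * tor n (K ⧸ H') = tor n H' * tor n (K ⧸ H') * cok n K := by ring
    _ = _ := h1

theorem sum_apply {A : Type*} [AddCommGroup A] (t : Finset ℕ) (f : ℕ → AddMonoid.End A) (x : A) :
    (∑ i ∈ t, f i : AddMonoid.End A) x = ∑ i ∈ t, f i x := by
  classical
  induction t using Finset.induction_on with
  | empty => rfl
  | insert a t ha ih =>
    rw [Finset.sum_insert ha, Finset.sum_insert ha, ← ih]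
    rfl

theorem relIndex_eq_ck {A : Type*} [AddCommGroup A] (K : AddSubgroup A)
    (f : AddMonoid.End A) (g : AddMonoid.End K) (hg : ∀ x : K, f x = g x) :
    (K.map f).relIndex K = ck g := by
  rw [ck, AddSubgroup.relIndex]
  congr 1
  ext x
  rw [AddSubgroup.mem_addSubgroupOf, AddSubgroup.mem_map, AddMonoidHom.mem_range]
  constructor
  · rintro ⟨y, hy, hyx⟩
    exact ⟨⟨y, hy⟩, Subtype.ext ((hg _).symm.trans hyx)⟩
  · rintro ⟨y, rfl⟩
    exact ⟨y, y.2, hg y⟩

theorem herb_prime (p : ℕ) [Fact p.Prime] {A : Type*} [AddCommGroup A] (σ : AddMonoid.End A) (hσ : σ ^ p = 1)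
    (ht : tor p A ≠ 0) (hc : cok p A ≠ 0) :
    ((AddMonoidHom.range (∑ i ∈ Finset.range p, σ ^ i : AddMonoid.End A)).relIndex (AddMonoidHom.ker (σ - 1))) ^ (p - 1)
        * cok p A * (tor p (AddMonoidHom.ker (σ - 1))) ^ p =
      ((AddMonoidHom.range (σ - 1)).relIndex (AddMonoidHom.ker (∑ i ∈ Finset.range p, σ ^ i : AddMonoid.End A))) ^ (p - 1)
        * tor p A * (cok p (AddMonoidHom.ker (σ - 1))) ^ p ∧
    (AddMonoidHom.range (∑ i ∈ Finset.range p, σ ^ i : AddMonoid.End A)).relIndex (AddMonoidHom.ker (σ - 1)) ≠ 0 ∧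
    (AddMonoidHom.range (σ - 1)).relIndex (AddMonoidHom.ker (∑ i ∈ Finset.range p, σ ^ i : AddMonoid.End A)) ≠ 0 ∧
    tor p (AddMonoidHom.ker (σ - 1)) ≠ 0 ∧ cok p (AddMonoidHom.ker (σ - 1)) ≠ 0 := by
  have hpp : p.Prime := Fact.out
  set N : AddMonoid.End A := ∑ i ∈ Finset.range p, σ ^ i with hN
  set D : AddMonoid.End A := σ - 1 with hD
  have hND : N * D = 0 := by rw [hN, hD, geom_sum_mul, hσ, sub_self]
  have hDN : D * N = 0 := by rw [hN, hD, mul_geom_sum, hσ, sub_self]
  set F : AddSubgroup A := AddMonoidHom.ker D with hF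
  set Z : AddSubgroup A := AddMonoidHom.ker N with hZ
  set I : AddSubgroup A := AddMonoidHom.range D with hI
  set NA : AddSubgroup A := AddMonoidHom.range N with hNA
  have hIZ : I ≤ Z := by
    rintro _ ⟨x, rfl⟩
    exact DFunLike.congr_fun hND x
  have hNF : NA ≤ F := by
    rintro _ ⟨x, rfl⟩
    exact DFunLike.congr_fun hDN x
  -- on `F`, `σ` is the identity and `N` is multiplication by `p`
  have hσF : ∀ x ∈ F, σ x = x := by
    intro x hx
    have : σ x - x = 0 := hx
    exact sub_eq_zero.1 this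
  have hσF' : ∀ x ∈ F, ∀ i : ℕ, (σ ^ i) x = x := by
    intro x hx i
    induction i with
    | zero => rfl
    | succ i ih =>
      rw [pow_succ]
      change (σ ^ i) (σ x) = x
      rw [hσF x hx, ih]
  have hNF' : ∀ x ∈ F, N x = p • x := by
    intro x hx
    rw [hN, sum_apply, Finset.sum_congr rfl (fun i _ => hσF' x hx i),
      Finset.sum_const, Finset.card_range]
  -- torsion
  have tZ : tor p Z ≠ 0 := tor_ne_zero_of_injective p (Z.subtype.toIntLinearMap)
    Subtype.val_injective ht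
  have tF : tor p F ≠ 0 := tor_ne_zero_of_injective p (F.subtype.toIntLinearMap)
    Subtype.val_injective ht
  have tN : tor p NA ≠ 0 := tor_ne_zero_of_injective p (NA.subtype.toIntLinearMap)
    Subtype.val_injective ht
  have tI : tor p I ≠ 0 := tor_ne_zero_of_injective p (I.subtype.toIntLinearMap)
    Subtype.val_injective ht
  -- the two exact sequences
  have ex : ∀ f : AddMonoid.End A, tor p (AddMonoidHom.ker f) * tor p (AddMonoidHom.range f) *
      cok p A = tor p A * cok p (AddMonoidHom.ker f) * cok p (AddMonoidHom.range f) := by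
    intro f
    refine herbrand p ((AddMonoidHom.ker f).subtype.toIntLinearMap)
      ((AddMonoidHom.rangeRestrict f).toIntLinearMap) Subtype.val_injective
      (AddMonoidHom.rangeRestrict_surjective f) ?_
    intro x
    constructor
    · intro hx
      exact ⟨⟨x, congrArg Subtype.val hx⟩, rfl⟩
    · rintro ⟨y, rfl⟩
      exact Subtype.ext y.2
  have exN := ex N
  have exD := ex D
  have cF : cok p F ≠ 0 := by
    intro h
    change tor p F * tor p I * cok p A = tor p A * cok p F * cok p I at exD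
    rw [h, mul_zero, zero_mul] at exD
    exact mul_ne_zero (mul_ne_zero tF tI) hc exD
  have cZ : cok p Z ≠ 0 := by
    intro h
    change tor p Z * tor p NA * cok p A = tor p A * cok p Z * cok p NA at exN
    rw [h, mul_zero, zero_mul] at exN
    exact mul_ne_zero (mul_ne_zero tZ tN) hc exN
  -- restriction of `σ` to `Z`
  have hcomm : N * σ = σ * N := by
    rw [hN, Finset.sum_mul, Finset.mul_sum]
    exact Finset.sum_congr rfl fun i _ => by rw [← pow_succ, ← pow_succ']
  have hσZ : ∀ x ∈ Z, σ x ∈ Z := by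
    intro x hx
    have h1 : N (σ x) = σ (N x) := DFunLike.congr_fun hcomm x
    have h2 : N x = 0 := hx
    change N (σ x) = 0
    rw [h1, h2, map_zero]
  let s : AddMonoid.End Z :=
    { toFun := fun x => ⟨σ x, hσZ x x.2⟩
      map_zero' := Subtype.ext (map_zero σ)
      map_add' := fun x y => Subtype.ext (map_add σ (x : A) (y : A)) }
  have hs : ∀ x : Z, ((s x : Z) : A) = σ (x : A) := fun x => rfl
  have hsi : ∀ (i : ℕ) (x : Z), (((s ^ i) x : Z) : A) = (σ ^ i) x := by
    intro i
    induction i with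
    | zero => intro x; rfl
    | succ i ih =>
      intro x
      rw [pow_succ, pow_succ]
      change (((s ^ i) (s x) : Z) : A) = (σ ^ i) (σ x)
      rw [ih, hs]
  have hsum : ∑ i ∈ Finset.range p, s ^ i = 0 := by
    ext x
    have h1 : N x = 0 := x.2
    rw [hN, sum_apply] at h1
    rw [sum_apply, AddSubgroup.val_finsetSum]
    simp only [hsi]
    exact h1
  obtain ⟨k0, c0, hmain⟩ := cok_mul_pow p s hsum tZ cZ
  -- `ker (s - 1) = F[p]`
  have hk : kr (s - 1) = tor p F := by
    rw [kr, tor_eq]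
    refine Nat.card_congr
      { toFun := fun x => ⟨⟨x.1.1, congrArg Subtype.val x.2⟩, ?_⟩
        invFun := fun x => ⟨⟨x.1.1, ?_⟩, ?_⟩
        left_inv := fun x => rfl
        right_inv := fun x => rfl }
    · apply Subtype.ext
      have hxF : (x.1.1 : A) ∈ F := congrArg Subtype.val x.2
      have h1 : N x.1.1 = 0 := x.1.2
      change p • (x.1.1 : A) = 0
      rw [← hNF' _ hxF, h1]
    · change N x.1.1 = 0
      rw [hNF' _ x.1.2]
      exact congrArg Subtype.val x.2
    · apply Subtype.ext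
      exact x.1.2
  -- indices
  set m := (F ⊔ Z).index with hm
  have hck : ck (s - 1) = m * I.relIndex Z := by
    rw [← relIndex_eq_ck Z D (s - 1) (fun x => rfl),
      ← AddSubgroup.relIndex_mul_relIndex (Z.map D) I Z (by
        rintro _ ⟨x, _, rfl⟩; exact ⟨x, rfl⟩) hIZ]
    congr 1
    have : I = (⊤ : AddSubgroup A).map D := (AddMonoidHom.range_eq_map D)
    rw [this, AddSubgroup.relIndex_map_map, top_sup_eq, AddSubgroup.relIndex_top_right, hm, sup_comm]
  have hcF : cok p F = m * NA.relIndex F := by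
    rw [cok_eq_ck, ← relIndex_eq_ck F N (p : AddMonoid.End F) (fun x => by
        rw [hNF' x x.2]; rfl),
      ← AddSubgroup.relIndex_mul_relIndex (F.map N) NA F (by
        rintro _ ⟨x, _, rfl⟩; exact ⟨x, rfl⟩) hNF]
    congr 1
    have : NA = (⊤ : AddSubgroup A).map N := (AddMonoidHom.range_eq_map N)
    rw [this, AddSubgroup.relIndex_map_map, top_sup_eq, AddSubgroup.relIndex_top_right, hm]
  have h0 : NA.relIndex F ≠ 0 := right_ne_zero_of_mul (hcF ▸ cF)
  have h1 : I.relIndex Z ≠ 0 := right_ne_zero_of_mul (hck ▸ c0)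
  have hB := tor_mul_cok_of_finite_relIndex p NA F hNF h0
  refine ⟨?_, h0, h1, tF, cF⟩
  change tor p Z * tor p NA * cok p A = tor p A * cok p Z * cok p NA at exN
  rw [hk] at hmain
  obtain ⟨q, hq⟩ : ∃ q, p = q + 1 := ⟨p - 1, by have := hpp.pos; omega⟩
  have hq' : p - 1 = q := by omega
  rw [hq'] at hmain ⊢
  have E1 : tor p Z * cok p A * tor p F = tor p A * cok p Z * cok p F := by
    apply Nat.eq_of_mul_eq_mul_right (Nat.pos_of_ne_zero tN)
    calc tor p Z * cok p A * tor p F * tor p NA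
        = (tor p Z * tor p NA * cok p A) * tor p F := by ring
      _ = tor p A * cok p Z * (tor p F * cok p NA) := by rw [exN]; ring
      _ = _ := by rw [← hB]; ring
  have E2 : cok p A * tor p F ^ (q + 1) = tor p A * ck (s - 1) ^ q * cok p F := by
    apply Nat.eq_of_mul_eq_mul_left (Nat.pos_of_ne_zero tZ)
    calc tor p Z * (cok p A * tor p F ^ (q + 1))
        = (tor p Z * cok p A * tor p F) * tor p F ^ q := by ring
      _ = tor p A * cok p F * (cok p Z * tor p F ^ q) := by rw [E1]; ring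
      _ = _ := by rw [hmain]; ring
  have hpow : ∀ x : ℕ, x ^ p = x ^ (q + 1) := fun x => by rw [← hq]
  rw [hpow, hpow]
  calc NA.relIndex F ^ q * cok p A * tor p F ^ (q + 1)
      = NA.relIndex F ^ q * (cok p A * tor p F ^ (q + 1)) := by ring
    _ = I.relIndex Z ^ q * tor p A * ((m * NA.relIndex F) ^ q * cok p F) := by
        rw [E2, hck]; ring
    _ = I.relIndex Z ^ q * tor p A * cok p F ^ (q + 1) := by rw [← hcF]; ring

end main

end Groth.Agent.Etbc.H162.HerbP
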